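import Cfsg.Agent.TensorOrth.EndGame

/-!
# Generation from a seed when neither factor has a totally isotropic plane
-/

set_option autoImplicit false
set_option linter.unusedSectionVars false

namespace CfsgLib.OrthTwelveTensor

open Matrix Module CfsgLib.Spinor CfsgLib.OrthMax CfsgLib.TensorOrth

variable {F : Type*} [Field F] [Fintype F] {ι : Type} [Fintype ι] [DecidableEq ι] {Q : QuadraticForm F (ι → F)}
  {a b : ℕ} {B₁ : LinearMap.BilinForm F (Fin a → F)} {B₂ : LinearMap.BilinForm F (Fin b → F)}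
  {t : (Fin a → F) →ₗ[F] (Fin b → F) →ₗ[F] (ι → F)} {M : Subgroup (Isom Q)} {ε : F}

/-- A seed and the factor groups generate `Ω` when both factors are at least three-dimensional and wide. -/
theorem omega_le_of_seed_wide (hT : Tens Q B₁ B₂ t) (hL : Lifts M t B₁ B₂ ε) (h₁ : Fac B₁ ε) (h₂ : Fac B₂ ε)
    (hQ : (QuadraticMap.polarBilin Q).Nondegenerate) (hn : 5 ≤ Fintype.card ι) (ha : 3 ≤ a) (hb : 3 ≤ b)
    (hW₁ : Wide B₁) (hW₂ : Wide B₂) {γ : Fin a → F} {c h : Fin b → F} (hs : Seed M t B₁ B₂ γ c h) :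
    Cfsg.Omega F ⇑Q ≤ M := by
  have hbl := hs.blocks hT hL h₁ h₂ (Or.inl ha) (Or.inl hb) hW₂
  obtain ⟨v, hv⟩ := hbl.seed_swap hT h₁ h₂ ha hs.γ_ne hs.γ_iso hs.c_ne hs.c_iso
  have hbr := hv.blocks hT.swap hL.swap h₂ h₁ (Or.inl hb) (Or.inl ha) hW₁
  have hbl' : Blocks M t.flip.flip B₁ B₂ := hbl
  have hfull : ∀ γ' c', γ' ≠ 0 → B₁ γ' γ' = 0 → c' ≠ 0 → B₂ c' c' = 0 → Full M (t γ' c') :=
    fun γ' c' hγ' hγ'i hc' hc'i => full_of_perp hT h₁ h₂ hγ'i hγ' hc'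
      (fun x y hx => hbl.perp hT h₁ h₂ hbr (Or.inl hb) hγ' hγ'i hc' hc'i hx y)
      (fun x y hy => hbr.perp hT.swap h₂ h₁ hbl' (Or.inl ha) hc' hc'i hγ' hγ'i hy x)
  obtain ⟨δ, hδ, hδγ⟩ := h₁.exists_partner hs.γ_ne hs.γ_iso
  obtain ⟨d, hd, hdc⟩ := h₂.exists_partner hs.c_ne hs.c_iso
  refine omega_le_of_full_pair hQ hn (hT.quad_left hδ d) (hT.quad_left hs.γ_iso c) ?_
    (hfull δ d (fun h => by simp [h] at hδγ) hδ (fun h => by simp [h] at hdc) hd)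
    (hfull γ c hs.γ_ne hs.γ_iso hs.c_ne hs.c_iso)
  rw [hT.polar, hδγ, hdc, mul_one]; exact one_ne_zero

/-- A right seed suffices too. -/
theorem omega_le_of_right_seed_wide (hT : Tens Q B₁ B₂ t) (hL : Lifts M t B₁ B₂ ε) (h₁ : Fac B₁ ε)
    (h₂ : Fac B₂ ε) (hQ : (QuadraticMap.polarBilin Q).Nondegenerate) (hn : 5 ≤ Fintype.card ι) (ha : 3 ≤ a)
    (hb : 3 ≤ b) (hW₁ : Wide B₁) (hW₂ : Wide B₂) {γ v : Fin a → F} {c : Fin b → F}
    (hs : Seed M t.flip B₂ B₁ c γ v) : Cfsg.Omega F ⇑Q ≤ M :=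
  omega_le_of_seed_wide hT.swap hL.swap h₂ h₁ hQ hn hb ha hW₂ hW₁ hs

end CfsgLib.OrthTwelveTensor
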