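import Cfsg.Agent.TensorOrth.Symplectic
import Cfsg.Agent.TensorOrth.Structure

/-!
# The stabiliser of `F^2 ⊗ F^6` (symplectic factors) is maximal in `Ω₁₂⁺(q)`, `q ≥ 3`

(clause (17) of the list of geometric maximal subgroups of `Ω₁₂⁺(q)`)
-/

set_option autoImplicit false

namespace CfsgLib.OrthTwelveTensor

open Matrix

variable {F : Type*} [Field F] [Fintype F]

theorem isMaximalIn_two_six (hq : 3 ≤ Fintype.card F) (Q : (Fin 12 → F) → F)
    (hQ : Cfsg.Geo.IsNondegenerateQuadraticForm Q) (e : Fin 12 ≃ Fin 2 × Fin 6)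
    (P : Matrix.GeneralLinearGroup (Fin 12) F) (f₁ : (Fin 2 → F) → (Fin 2 → F) → F)
    (f₂ : (Fin 6 → F) → (Fin 6 → F) → F) (hf₁ : Cfsg.Geo.IsSymplecticForm f₁)
    (hf₂ : Cfsg.Geo.IsSymplecticForm f₂)
    (hT : Cfsg.Geo.IsTensorFormStructure id (QuadraticMap.polar Q) f₁ f₂ e P)
    (hpure : ∀ (x₁ : Fin 2 → F) (x₂ : Fin 6 → F), Q (Matrix.mulVec (P : Matrix (Fin 12) (Fin 12) F)
      ((fun a : Fin 2 × Fin 6 => x₁ a.1 * x₂ a.2) ∘ e)) = 0) :
    Cfsg.Geo.IsMaximalIn (Cfsg.Geo.omegaGL Q)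
      (Cfsg.Geo.tensorProductSubgroup 2 6 e P ⊓ Cfsg.Geo.omegaGL Q) := by
  obtain ⟨c, hc0, hT⟩ := hT
  set q := CfsgLib.AschbacherQuad.quadForm hQ
  set q' := CfsgLib.TensorOrth.coordQuad q e P
  set B₁ := CfsgLib.TensorOrth.bilinOf hf₁.bilinear c
  set B₂ := CfsgLib.TensorOrth.bilinOf hf₂.bilinear 1
  have hS : CfsgLib.TensorOrth.TSet q' B₁ B₂ (-1) := by
    refine ⟨CfsgLib.TensorOrth.coordQuad_nondeg (CfsgLib.AschbacherQuad.quadForm_nondegenerate hQ) e P,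
      CfsgLib.TensorOrth.fac_of_symplectic hf₁ hc0, CfsgLib.TensorOrth.fac_of_symplectic hf₂ one_ne_zero,
      fun x x' y y' => ?_, fun x y _ => hpure x y⟩
    rw [CfsgLib.TensorOrth.polar_coordQuad, CfsgLib.TensorOrth.bilinOf_apply,
      CfsgLib.TensorOrth.bilinOf_apply, one_mul, mul_assoc,
      ← CfsgLib.TensorOrth.formOfGram_kron_ten hf₁.bilinear hf₂.bilinear]
    exact hT _ _
  have halt : ∀ x, B₁ x x = 0 := fun x => by
    rw [CfsgLib.TensorOrth.bilinOf_apply, hf₁.alternating, mul_zero]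
  have halt₂ : ∀ y, B₂ y y = 0 := fun y => by
    rw [CfsgLib.TensorOrth.bilinOf_apply, hf₂.alternating, mul_zero]
  have hex : Nat.card F ≠ 2 ∨ 3 ≤ 2 := Or.inl (by rw [Nat.card_eq_fintype_card]; omega)
  refine CfsgLib.TensorOrth.isMaximalIn_of_coord q e P
    (CfsgLib.OrthMax.isMaximalIn_omega (Q := q') _ ?_ fun M hM g hgM hgΩ hgK =>
      hS.omega_le_of_alt halt le_rfl (by norm_num) (by norm_num) hex hM hgM hgΩ hgK)
  exact hS.exists_omega_notMem (by norm_num) (by norm_num) (γ := Pi.single ⟨0, by norm_num⟩ 1) (by simp)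
    (halt _) (c := Pi.single ⟨0, by norm_num⟩ 1) (by simp) (halt₂ _)

end CfsgLib.OrthTwelveTensor
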