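import Cfsg.Agent.OrthTwelveTensor.Generation
import Cfsg.Agent.TensorOrthSlice.Main

/-!
# `O₃ ⊗ O₄⁻`: an overgroup contains `Ω`

The second factor has Witt index one, so a radical element is shaped by the left root elements alone.
-/

set_option autoImplicit false
set_option linter.unusedSectionVars false

namespace CfsgLib.OrthTwelveTensor

open Matrix Module CfsgLib.Spinor CfsgLib.OrthMax CfsgLib.TensorOrth
open CfsgLib.TensorMax (Idx ten ten_add_left ten_add_right ten_smul_left ten_smul_right ten_eq_zero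
  ten_inj_left ten_inj_right)
open CfsgLib.TensorSlice (ASet swQ swIso swIso_omega swIso_mem_Kr swIso_mulVec swL swL_ten exists_orth_basis
  IsOrth)

variable {F : Type*} [Field F] [Fintype F] {a b : ℕ} {Q : QuadraticForm F (Idx a b → F)}
  {B₁ : LinearMap.BilinForm F (Fin a → F)} {B₂ : LinearMap.BilinForm F (Fin b → F)}
  {M : Subgroup (Isom Q)}

/-- The left involution negating a hyperbolic pair and fixing its orthogonal lies in `Ω ∩ Kr`. -/
theorem exists_negPair (hs : ASet Q B₁ B₂) (hbe : Even b) {γ δ : Fin a → F} (hγ : B₁ γ γ = 0) (hδ : B₁ δ δ = 0)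
    (hδγ : B₁ δ γ = 1) :
    ∃ g ∈ Cfsg.Omega F ⇑Q, g ∈ Kr Q ∧
      ∀ x y, mat Q g *ᵥ ten x y = ten (x - (2 * B₁ x δ) • γ - (2 * B₁ x γ) • δ) y := by
  have h' := hs.swap
  have h2 := hs.two
  have hγδ : B₁ γ δ = 1 := by rw [hs.symm₁, hδγ]
  have he₁ : B₁ (γ + δ) (γ + δ) = 2 := by simp [hγ, hδ, hγδ, hδγ, one_add_one_eq_two]
  have he₂ : B₁ (γ - δ) (γ - δ) = -2 := by simp [hγ, hδ, hγδ, hδγ]; norm_num
  have hn₁ : B₁ (γ + δ) (γ + δ) ≠ 0 := by rw [he₁]; exact h2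
  have hn₂ : B₁ (γ - δ) (γ - δ) ≠ 0 := by rw [he₂]; exact neg_ne_zero.2 h2
  obtain ⟨y, hy⟩ := exists_orth_basis hs.tset.f₂ h2
  set g' := h'.R (γ + δ) * h'.R (γ - δ) with hg'
  have hΩ : g' ∈ Cfsg.Omega F ⇑(swQ Q) := by
    rw [hg', mem_omega_iff h2 h'.tset.nondeg ((h'.R_isReflProd hy hn₁).mul (h'.R_isReflProd hy hn₂)),
      List.length_append, List.length_ofFn, List.length_ofFn, List.map_append, List.prod_append, List.map_ofFn,
      List.map_ofFn, List.prod_ofFn, List.prod_ofFn]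
    refine ⟨⟨b, rfl⟩, ?_⟩
    simp only [Function.comp_apply, h'.quad_ten, he₁, he₂]
    have e : ∀ i, B₂ (y i) (y i) * -2 / 2 = -1 * (B₂ (y i) (y i) * 2 / 2) := fun i => by ring
    simp only [e]
    rw [Finset.prod_mul_distrib, Finset.prod_const, Finset.card_univ, Fintype.card_fin, hbe.neg_one_pow, one_mul]
    exact IsSquare.mul_self _
  have hmem : g' ∈ Kr (swQ Q) := (Kr (swQ Q)).mul_mem (h'.R_mem _) (h'.R_mem _)
  have hval : ∀ x w, mat (swQ Q) g' *ᵥ ten w x = ten w (x - (2 * B₁ x δ) • γ - (2 * B₁ x γ) • δ) := fun x w => by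
    rw [hg', mat_mul, ← mulVec_mulVec, h'.R_vec hn₂, mulVec_sub, mulVec_smul, h'.R_vec hn₁, h'.R_vec hn₁, he₁, he₂,
      show (2 : F) / 2 = 1 from div_self h2, show (2 : F) / (-2) = -1 by rw [div_neg, div_self h2]]
    simp only [TensorOrth.evB_ten, ten_smul_left, ten_add_right, CfsgLib.TensorSlice.ten_sub_right, ten_smul_right,
      CfsgLib.TensorSlice.ten_sub_left,
      map_add, map_sub, map_smul, hγ, hδ, hγδ, hδγ, smul_sub, smul_add, smul_smul]

    match_scalars <;> ring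
  obtain ⟨g, hg, hgg⟩ : ∃ g ∈ Cfsg.Omega F ⇑Q, swIso Q g = g' := by
    rw [← swIso_omega] at hΩ
    obtain ⟨g, hg, hgg⟩ := hΩ
    exact ⟨g, hg, hgg⟩
  refine ⟨g, hg, (swIso_mem_Kr hs.apos hs.bpos hs.tset g).1 (hgg ▸ hmem), fun x w => ?_⟩
  have h1 := swIso_mulVec g (ten w x)
  rw [hgg, hval, swL_ten, ← swL.injective.eq_iff, LinearEquiv.apply_symm_apply, swL_ten] at h1
  exact h1.symm

variable (hX : Ctx Q B₁ B₂ 1 M) (hs : ASet Q B₁ B₂)
include hX hs

/-- The endgame for a three-dimensional first factor and a second one of Witt index one. -/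
theorem omega_le_of_slice_small (ha : a = 3) (hbe : Even b) (hN : NoPlane B₂) {g : Isom Q} (hgM : g ∈ M)
    (hgK : g ∉ Kr Q) {c c' : Fin b → F} (hc0 : c ≠ 0) (hc : B₂ c c = 0) (hc'0 : c' ≠ 0) (hc' : B₂ c' c' = 0)
    (hg : ∀ x, ∃ x', mat Q g *ᵥ ten x c = ten x' c') : Cfsg.Omega F ⇑Q ≤ M := by
  have hS := hX.tset
  have h₁ := hS.f₁
  have h₂ := hS.f₂
  have ha0 : 0 < a := by omega
  have hb : 0 < b := by have := hX.b_three; omega
  have h2 := hs.two
  have hT := hS.tens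
  have hL := hS.lifts hX.card_ok hX.mem
  have hcard : 5 ≤ Fintype.card (Idx a b) := by
    rw [Fintype.card_prod, Fintype.card_fin, Fintype.card_fin]
    exact hX.card_ok
  have hW₁ : Wide B₁ := h₁.noPlane_wide ha.le
  have hW₂ : Wide B₂ := Or.inr (Or.inr hN)
  have hfinish₁ : ∀ {γ : Fin a → F} {c h : Fin b → F}, Seed M tenB B₁ B₂ γ c h → Cfsg.Omega F ⇑Q ≤ M :=
    fun h => omega_le_of_seed_wide hT hL h₁ h₂ hS.nondeg hcard ha.ge (by have := hX.b_three; omega) hW₁ hW₂ h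
  have hfinish₂ : ∀ {γ v : Fin a → F} {c : Fin b → F}, Seed M tenB.flip B₂ B₁ c γ v → Cfsg.Omega F ⇑Q ≤ M :=
    fun h => omega_le_of_right_seed_wide hT hL h₁ h₂ hS.nondeg hcard ha.ge (by have := hX.b_three; omega) hW₁ hW₂ h
  -- a radical element
  obtain ⟨d, hd, hdc⟩ := h₂.exists_partner hc0 hc
  have hcd : B₂ c d = 1 := by rw [hs.symm₂, hdc]
  obtain ⟨T, hTm, s, hs0, hTc⟩ :=
    h₂.exists_move (Or.inl (by have := hX.b_three; omega)) hc'0 hc0 hc' hc
  obtain ⟨e', he', he'v⟩ := hX.right hTm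
  have heK : e' ∈ Kr Q := hS.mem_Kr_of_ten ha0 hb LinearMap.id (Matrix.mulVecLin (T : Matrix (Fin b) (Fin b) F))
    fun x y => by rw [he'v]; rfl
  have hg₁ : ∀ x, ∃ x', mat Q (e' * g) *ᵥ ten x c = ten x' c := fun x => by
    obtain ⟨x', hx'⟩ := hg x
    exact ⟨s • x', by rw [mat_mul, ← mulVec_mulVec, hx', he'v, hTc, ten_smul_right, ← ten_smul_left]⟩
  set S₀ : (Fin a → F) →ₗ[F] (Fin a → F) :=
    (evB B₂ d).comp ((Matrix.mulVecLin (mat Q (e' * g))).comp (tenB.flip c)) with hS₀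
  have hS₀v : ∀ x, mat Q (e' * g) *ᵥ ten x c = ten (S₀ x) c := fun x => by
    obtain ⟨x', hx'⟩ := hg₁ x
    rw [hx', hS₀]
    simp [hx', hcd]
  have hinj : Function.Injective S₀ := fun x y hxy =>
    ten_inj_left hc0 (mulVec_injective (e' * g) (by
      show mat Q (e' * g) *ᵥ _ = mat Q (e' * g) *ᵥ _
      rw [hS₀v, hS₀v, hxy]))
  obtain ⟨r, hr, hrR, hrK⟩ := hX.exists_rad_outside (M.mul_mem he' hgM)
    (fun h => hgK (by simpa using (Kr Q).mul_mem ((Kr Q).inv_mem heK) h)) hc0 hc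
    (S := LinearEquiv.ofInjectiveEndo S₀ hinj) (fun x => by rw [hS₀v]; rfl)
  by_cases hcen : M ⊓ Cen Q B₂ c ≤ Kr Q
  swap
  · obtain ⟨γ, v, hv⟩ := hX.seed_of_cen hc0 hc hcen
    exact hfinish₂ hv
  -- the left frame
  obtain ⟨γ, hγ0, hγ⟩ := hX.exists_iso_left
  obtain ⟨δ, hδ, hδγ⟩ := h₁.exists_partner hγ0 hγ
  have hγδ : B₁ γ δ = 1 := by rw [hs.symm₁, hδγ]
  obtain ⟨e, heγ, heδ, hee⟩ := h₁.exists_nonsingular_pair h2 rfl hγ hδ hδγ ha.ge
  have he0 : e ≠ 0 := fun h => hee (by simp [h])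
  have hspan : ∀ x, B₁ x γ = 0 → B₁ x δ = 0 → ∃ t : F, t • e = x := by
    intro x hxγ hxδ
    have hle : Submodule.span F {e} ≤ cperp B₁ γ ⊓ cperp B₁ δ :=
      (Submodule.span_singleton_le_iff_mem _ _).2 ⟨heγ, heδ⟩
    have hlt : cperp B₁ γ ⊓ cperp B₁ δ < cperp B₁ γ := lt_of_le_of_ne inf_le_left fun h => by
      have hm : γ ∈ cperp B₁ γ ⊓ cperp B₁ δ := by rw [h]; exact hγ
      exact one_ne_zero (hγδ.symm.trans (hm.2 : B₁ γ δ = 0))
    have h3 := Submodule.finrank_lt_finrank_of_lt hlt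
    have h4 := h₁.finrank_cperp hγ0
    have heq := Submodule.eq_of_le_of_finrank_le hle (by rw [finrank_span_singleton he0]; omega)
    exact Submodule.mem_span_singleton.1 (heq.symm ▸ (⟨hxγ, hxδ⟩ : x ∈ cperp B₁ γ ⊓ cperp B₁ δ))
  -- a translation fixed by the left root elements
  set p := ringChar F
  have : Fact p.Prime := ⟨CharP.char_is_prime F p⟩
  set U := pairGrp M (rootsAt B₁ 1 h₁ hγ γ) (⊥ : Subgroup (GL (Fin b) F)) with hUdef
  have hU : IsPGroup p U := pairGrp_isPGroup (rootsAt_isPGroup h₁ ha0 hγ γ) IsPGroup.of_bot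
  have hinv : ∀ g ∈ U, ∀ r ∈ M ⊓ Rad Q B₂ c, g * r * g⁻¹ ∈ M ⊓ Rad Q B₂ c := by
    rintro g ⟨hg, E, -, E', hE', hgv⟩ r ⟨hr, hrc⟩
    refine ⟨M.mul_mem (M.mul_mem hg hr) (M.inv_mem hg), hS.conj_mem_rad g (glEquiv E) (fun x => ?_) hrc⟩
    rw [hgv, (Subgroup.mem_bot.1 hE' : E' = 1), Units.val_one, one_mulVec, glEquiv_apply]
  obtain ⟨m, ⟨hmM, hmR⟩, hmK, hfix⟩ := hS.exists_fixed ha0 hb hc0 hc hdc inf_le_right hU hinv
    (fun hle => hrK (hle ⟨hr, hrR⟩))
  let X : (Fin b → F) → (Fin a → F) → (Fin a → F) := fun u x => xPart B₂ 1 d m (ten x u)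
  have hmv : ∀ u, B₂ u c = 0 → ∀ x, mat Q m *ᵥ ten x u = ten x u + ten (X u x) c := fun u hu x =>
    hS.rad_mulVec hdc hmR (by simp [hu])
  have hXc : ∀ x, X c x = 0 := fun x => by simp [X, xPart, hmR.1]
  have hfm : ∀ u, B₂ u c = 0 → FixMod B₁ 1 γ ((xPart B₂ 1 d m).comp (tenB.flip u)) := by
    intro u hu z k hz hk
    obtain ⟨e₁, he₁, he₁v⟩ := hX.pair_left hγ hz hk (⊥ : Subgroup (GL (Fin b) F))
    obtain ⟨T, ν, hTc', hTi, hν, hrel⟩ := hfix e₁ he₁
    have hTu : B₂ (T u) c = 0 := by rw [← hTc', hTi, hu]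
    obtain ⟨μ, -, hμ⟩ := split_ten ha0 (A := fun x => esie B₁ 1 γ z k x) (y := T u - u)
      (D := fun x => esie B₁ 1 γ z k (X u x) - X u (esie B₁ 1 γ z k x))
      ⟨δ, fun h => by
        have := h₁.esie_isom hγ hz hk δ γ
        rw [h, map_zero, LinearMap.zero_apply, hδγ] at this
        exact zero_ne_one this⟩ hc0 fun x => by
        have h1 := hrel (ten x u)
        rw [hmv u hu, mulVec_add, he₁v, he₁v, hmv u hu, mulVec_add, hν, hν, hTc'] at h1
        rw [TensorOrth.ten_sub_right', TensorOrth.ten_sub_left']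
        linear_combination (norm := module) -h1
    exact ⟨μ, hμ⟩
  -- its coefficients
  let φl : (Fin b → F) →ₗ[F] F := (B₁.flip δ).comp ((xPart B₂ 1 d m).comp (tenB γ))
  let φσ : (Fin b → F) →ₗ[F] F := (B₁.flip δ).comp ((xPart B₂ 1 d m).comp (tenB δ))
  let φν : (Fin b → F) →ₗ[F] F := (B₁ e e)⁻¹ • (B₁.flip e).comp ((xPart B₂ 1 d m).comp (tenB δ))
  have hXu : ∀ u, B₂ u c = 0 → ∀ x, X u x = φl u • x + (φσ u * B₁ x γ) • γ
      + φν u • (B₁ x γ • e - B₁ x e • γ) := by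
    intro u hu
    obtain ⟨l, v, σ, hvγ, hvδ, hA⟩ := h₁.shape hX.shapeOK hγ hδ hδγ (hfm u hu)
    have hA' : ∀ x, X u x = l • x + (σ * B₁ x γ) • γ + (B₁ x γ • v - B₁ x v • γ) := hA
    obtain ⟨t, rfl⟩ := hspan v hvγ hvδ
    have el : φl u = l := by
      show B₁ (X u γ) δ = l
      rw [hA']
      simp [hγ, hγδ, hs.symm₁ γ e, heγ]
    have eσ : φσ u = σ := by
      show B₁ (X u δ) δ = σ
      rw [hA']
      simp [hδ, hδγ, hγδ, heδ, hs.symm₁ δ e]
    have eν : φν u = t := by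
      show (B₁ e e)⁻¹ * B₁ (X u δ) e = t
      rw [hA']
      simp [hδγ, hs.symm₁ δ e, hs.symm₁ γ e, heδ, heγ]
      field_simp
    intro x
    rw [hA', el, eσ, eν]
    simp only [map_smul, smul_eq_mul]
    module
  -- removing the scalar
  obtain ⟨zl, hzl⟩ := h₂.exists_rep φl
  have hrepc : ∀ φ : (Fin b → F) →ₗ[F] F, ∀ z, (∀ u, B₂ u z = φ u) → φ c = 0 → B₂ z c = 0 :=
    fun φ z hz h => by rw [hs.symm₂, hz, h]
  have hzlc : B₂ zl c = 0 := hrepc _ _ hzl (show B₁ (X c γ) δ = 0 by rw [hXc]; simp)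
  obtain ⟨q, hq, hqK, hqL, -⟩ := hX.exists_scalar_line hc hzlc
  set m₀ := q * m with hm₀
  have hm₀M : m₀ ∈ M := M.mul_mem hq hmM
  have hm₀K : m₀ ∉ Kr Q := fun h => hmK (by
    have := (Kr Q).mul_mem ((Kr Q).inv_mem hqK) h
    rwa [hm₀, inv_mul_cancel_left] at this)
  have hm₀c : ∀ x, mat Q m₀ *ᵥ ten x c = ten x c := fun x => by
    rw [hm₀, mat_mul, ← mulVec_mulVec, hmR.1, hqL.1]
  have hm₀v : ∀ u, B₂ u c = 0 → ∀ x, mat Q m₀ *ᵥ ten x u
      = ten x u + ten ((φσ u * B₁ x γ) • γ + φν u • (B₁ x γ • e - B₁ x e • γ)) c := fun u hu x => by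
    rw [hm₀, mat_mul, ← mulVec_mulVec, hmv u hu, hXu u hu, mulVec_add, hqL.1, hqL.ten_perp x hu, hzl]
    simp only [one_smul, LinearMap.neg_apply, LinearMap.id_apply, ten_add_left, ten_smul_left,
      TensorOrth.ten_neg_left']
    module
  -- the involution separates the two kinds
  obtain ⟨w, hw, hwK, hwv⟩ := exists_negPair hs hbe hγ hδ hδγ
  have hwM : w ∈ M := hX.mem w hw hwK
  let S : (Fin a → F) → (Fin a → F) := fun x => x - (2 * B₁ x δ) • γ - (2 * B₁ x γ) • δ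
  set m₁ := w * m₀ * w⁻¹ with hm₁
  have hm₁M : m₁ ∈ M := M.mul_mem (M.mul_mem hwM hm₀M) (M.inv_mem hwM)
  have hSS : ∀ x, S (S x) = x := fun x => by
    simp only [S, map_sub, map_smul, LinearMap.sub_apply, LinearMap.smul_apply, smul_eq_mul, hγ, hδ, hγδ, hδγ]
    module
  have hwi : ∀ x y, mat Q w⁻¹ *ᵥ ten x y = ten (S x) y := fun x y => mulVec_injective w (by
    show mat Q w *ᵥ _ = mat Q w *ᵥ _
    rw [mulVec_cancel', hwv]
    show ten x y = ten (S (S x)) y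
    rw [hSS])
  have hm₁c : ∀ x, mat Q m₁ *ᵥ ten x c = ten x c := fun x => by
    rw [hm₁, mat_mul, mat_mul, ← mulVec_mulVec, ← mulVec_mulVec, hwi, hm₀c, hwv]
    exact congrArg (ten · c) (hSS x)
  have hm₁v : ∀ u, B₂ u c = 0 → ∀ x, mat Q m₁ *ᵥ ten x u
      = ten x u + ten ((φσ u * B₁ x γ) • γ - φν u • (B₁ x γ • e - B₁ x e • γ)) c := fun u hu x => by
    rw [hm₁, mat_mul, mat_mul, ← mulVec_mulVec, ← mulVec_mulVec, hwi, hm₀v u hu, mulVec_add, hwv, hwv]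
    congr 1
    · exact congrArg (ten · u) (hSS x)
    · congr 1
      simp only [S, map_add, map_sub, map_smul, LinearMap.add_apply, LinearMap.sub_apply, LinearMap.smul_apply,
        smul_eq_mul, hγ, hγδ, hδγ, heγ, heδ, hs.symm₁ γ e, hs.symm₁ δ e]
      module
  have hperp : ∀ φ : (Fin b → F) →ₗ[F] F, φ c = 0 →
      ∃ h, B₂ h c = 0 ∧ B₂ h d = 0 ∧ ∀ u, B₂ u c = 0 → B₂ u h = φ u := by
    intro φ hφ
    obtain ⟨z, hz⟩ := h₂.exists_rep φ
    refine ⟨z - B₂ z d • c, ?_, ?_, fun u hu => ?_⟩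
    · simp [hrepc φ z hz hφ, hc]
    · simp [hcd]
    · simp [hz, hu]
  obtain ⟨hσ, hσc, hσd, hσu⟩ := hperp φσ (show B₁ (X c δ) δ = 0 by rw [hXc]; simp)
  obtain ⟨hν, hνc, hνd, hνu⟩ := hperp φν (show (B₁ e e)⁻¹ * B₁ (X c δ) e = 0 by rw [hXc]; simp)
  have hne : ∀ {h : Fin b → F}, B₂ h d = 0 → h ≠ 0 → ∀ s : F, s • c ≠ h := fun {h} hhd hh s hsc => by
    have h1 := congrArg (fun w => B₂ w d) hsc
    simp [hcd, hhd] at h1
    exact hh (by rw [← hsc, h1, zero_smul])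
  by_cases hσ0 : hσ = 0
  · -- only the alternating part
    have hm₀L : RadLine Q B₂ c hν (altOp B₁ γ e) m₀ := RadLine.mk' hm₀c fun x u hu => by
      rw [hm₀v u hu, ← hσu u hu, ← hνu u hu, hσ0]
      simp [ten_smul_left]
    have hν0 : hν ≠ 0 := by
      intro h0
      refine hm₀K (hcen ⟨hm₀M, RadLine.mem_cen (h := hν) ⟨hm₀c, fun v hv => ?_⟩⟩)
      rw [hm₀L.2 v hv, h0, show evB B₂ (0 : Fin b → F) v = 0 from funext fun i => by simp [evB_apply],
        map_zero, LinearMap.zero_apply]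
    obtain ⟨y, hy⟩ := h₂.exists_one hν0
    obtain ⟨μ, hμ⟩ := hX.line_adjoint hc0 hc hd hdc (g := y - B₂ y c • d - B₂ y d • c)
      (h := hν) (by simp [hdc, hc]) (by simp [hd, hcd])
      (by simp [hy, hs.symm₂ d hν, hs.symm₂ c hν, hνd, hνc]) hcen hm₀M hm₀L
    have e1 := hμ γ δ
    simp [hγ, hγδ, hδγ, hs.symm₁ γ e, hs.symm₁ δ e, heγ, heδ] at e1
    have e2 := hμ e δ
    simp [hδγ, hs.symm₁ δ e, heγ, heδ, hγδ, ← e1] at e2
    exact absurd e2 fun h => hee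
      ((mul_eq_zero.1 (show (2 : F) * B₁ e e = 0 by linear_combination -h)).resolve_left h2)
  -- a translation by a line
  have hL₁ : RadLine Q B₂ c hσ (lineOp B₁ γ (2 : F)) (m₀ * m₁) := RadLine.mk'
    (fun x => by rw [mat_mul, ← mulVec_mulVec, hm₁c, hm₀c]) fun x u hu => by
    rw [mat_mul, ← mulVec_mulVec, hm₁v u hu, mulVec_add, hm₀c, hm₀v u hu, hσu u hu, lineOp_apply]
    simp only [ten_add_left, ten_smul_left, TensorOrth.ten_sub_left']
    module
  obtain ⟨v, hvγ, hvδ, hroot⟩ := hX.rootMem_of_radLine hc0 hc hd hdc hσc hσd hcen hγ hδ hδγ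
    (M.mul_mem hm₀M hm₁M) hL₁
  obtain ⟨t, rfl⟩ := hspan v hvγ hvδ
  have hu : Q (ten γ c) = 0 := hS.quad _ _ (Or.inl hγ)
  have hflip : RootMem M (ten γ c) (ten ((-2 : F) • γ) hσ + ten (-(t • e)) c) := by
    have h := hroot.conj hwM
    rw [mulVec_add, hwv, hwv, hwv] at h
    simp only [map_smul, LinearMap.smul_apply, smul_eq_mul, hγ, hγδ, heγ, heδ, mul_zero, mul_one, zero_smul,
      sub_zero] at h
    rw [show γ - (2 : F) • γ = (-1 : F) • γ by module, ten_smul_left, rootMem_smul_left] at h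
    convert h using 1
    simp only [ten_smul_left, TensorOrth.ten_sub_left', TensorOrth.ten_neg_left', smul_add]
    module
  have hw0 : ∀ x : Fin a → F, B₁ x γ = 0 →
      QuadraticMap.polar (⇑Q) (ten γ c) (ten ((-2 : F) • γ) hσ + ten x c) = 0 := fun x hx => by
    simp [QuadraticMap.polar_add_right, hS.polar, hγ, hc]
  by_cases ht : t = 0
  · refine hfinish₁ (γ := γ) (c := c) (h := (-2 : F) • hσ) ⟨hγ0, hγ, hc0, hc, by simp [hσc], ?_, ?_⟩
    · refine hne (by simp [hσd]) fun h => hσ0 ?_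
      exact (smul_eq_zero.1 h).resolve_left (neg_ne_zero.2 h2)
    · rw [ht, zero_smul, TensorOrth.ten_zero_left, add_zero, ten_smul_left] at hroot
      rwa [tenB_apply, tenB_apply, ten_smul_right]
  · refine hfinish₂ (γ := γ) (v := (2 * t) • e) (c := c) ⟨hc0, hc, hγ0, hγ, by simp [heγ], fun s hs' => ?_, ?_⟩
    · have h1 := congrArg (fun w => B₁ w δ) hs'
      simp [hγδ, heδ] at h1
      rw [h1, zero_smul, eq_comm, smul_eq_zero, mul_eq_zero] at hs'
      exact (hs'.resolve_right he0).elim h2 ht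
    · have h := RootMem.add hu (hw0 _ hvγ) (by
        rw [QuadraticMap.polar_neg_right, hw0 _ (by simp [heγ]), neg_zero]) hroot
        (RootMem.neg hu (hw0 _ (by simp [heγ])) hflip)
      show RootMem M (ten γ c) (ten ((2 * t) • e) c)
      convert h using 1
      simp only [TensorOrth.ten_neg_left', ten_smul_left]
      module

end CfsgLib.OrthTwelveTensor
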