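import Cfsg.Agent.OrthTwelveTensor.ThreeFour

/-!
# The stabiliser of `F^3 ⊗ F^4` (second factor minus) is maximal in `Ω₁₂⁻(q)`, `q ≥ 5` odd

(clause (11) of the list of geometric maximal subgroups of `Ω₁₂⁻(q)`)
-/

set_option autoImplicit false
set_option linter.unusedSectionVars false

namespace CfsgLib.OrthTwelveTensor

open Matrix Module CfsgLib.Spinor CfsgLib.OrthMax CfsgLib.TensorOrth
open CfsgLib.TensorMax (Idx ten)

variable {F : Type*} [Field F] [Fintype F]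

/-- In a four-dimensional factor without totally isotropic planes the orthogonal of a hyperbolic pair is
anisotropic. -/
theorem exists_plane_four {n : ℕ} {B : LinearMap.BilinForm F (Fin n → F)} (hB : Fac B 1) (hn : 4 ≤ n)
    (hN : NoPlane B) : ∃ γ z₁ z₂ : Fin n → F, γ ≠ 0 ∧ B γ γ = 0 ∧ B z₁ γ = 0 ∧ B z₂ γ = 0 ∧
      ∀ s t : F, B (s • z₁ + t • z₂) (s • z₁ + t • z₂) = 0 → s = 0 ∧ t = 0 := by
  obtain ⟨γ, -, hγ0, hγ⟩ := hB.exists_iso ⊤ (by rw [finrank_top, Module.finrank_fin_fun]; omega)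
  obtain ⟨d, hd, hdγ⟩ := hB.exists_partner hγ0 hγ
  set K := cperp B γ ⊓ cperp B d with hK
  have hdim : 2 ≤ finrank F K := by
    have := hB.finrank_le_inf (cperp B γ) d
    have := hB.finrank_cperp hγ0
    rw [hK]
    omega
  obtain ⟨f, hf⟩ := exists_linearIndependent_of_le_finrank (R := F) (M := K) hdim
  have h0 := (LinearIndependent.pair_iff (R := F) (x := f 0) (y := f 1)).1 (by
    have e : ![f 0, f 1] = f := by funext i; fin_cases i <;> rfl
    rwa [e])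
  refine ⟨γ, f 0, f 1, hγ0, hγ, (f 0).2.1, (f 1).2.1, fun s t h => h0 s t (Subtype.ext ?_)⟩
  have hz : s • (f 0 : Fin n → F) + t • (f 1 : Fin n → F) ∈ K := (s • f 0 + t • f 1).2
  obtain ⟨k, hk⟩ := hN γ _ hγ0 hγ h (hB.orth_comm hz.1)
  have h1 := congrArg (fun w => B w d) hk
  simp [hB.symm γ d, hdγ, show B (f 0 : Fin n → F) d = 0 from (f 0).2.2,
    show B (f 1 : Fin n → F) d = 0 from (f 1).2.2] at h1
  simpa [h1] using hk.symm

theorem isMaximalIn_three_four (hq : Odd (Fintype.card F) ∧ 5 ≤ Fintype.card F) (Q : (Fin 12 → F) → F)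
    (hQ : Cfsg.Geo.IsNondegenerateQuadraticForm Q) (e : Fin 12 ≃ Fin 3 × Fin 4)
    (P : Matrix.GeneralLinearGroup (Fin 12) F) (f₁ : (Fin 3 → F) → (Fin 3 → F) → F)
    (f₂ : (Fin 4 → F) → (Fin 4 → F) → F) (hf₁ : Cfsg.Geo.IsSymmetricForm f₁)
    (hf₂ : Cfsg.Geo.IsSymmetricForm f₂) (hf₂m : ¬ Cfsg.Geo.IsPlusTypeOn (fun v : Fin 4 → F => f₂ v v) ⊤)
    (hT : Cfsg.Geo.IsTensorFormStructure id (QuadraticMap.polar Q) f₁ f₂ e P) :
    Cfsg.Geo.IsMaximalIn (Cfsg.Geo.omegaGL Q)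
      (Cfsg.Geo.tensorProductSubgroup 3 4 e P ⊓ Cfsg.Geo.omegaGL Q) := by
  have h2 := CfsgLib.TensorSlice.two_ne_of_odd hq.1
  obtain ⟨c, hc, hs⟩ := CfsgLib.TensorSlice.aset_of_structure (Q := CfsgLib.AschbacherQuad.quadForm hQ) h2
    (by norm_num) (by norm_num) (CfsgLib.AschbacherQuad.quadForm_nondegenerate hQ) e P hf₁ hf₂ hT
  have hN : NoPlane (bilinOf hf₂.bilinear (1 : F)) := by
    intro x y hx hxx hyy hxy
    by_contra hcon
    push Not at hcon
    simp only [bilinOf_apply, one_mul] at hxx hyy hxy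
    refine hf₂m ⟨Submodule.span F {x, y}, le_top, fun v hv => ?_, ?_⟩
    · obtain ⟨s, t, rfl⟩ := Submodule.mem_span_pair.1 hv
      have hb := hf₂.bilinear
      show f₂ (s • x + t • y) (s • x + t • y) = 0
      simp only [hb.add_left, hb.add_right, hb.smul_left, hb.smul_right, hxx, hyy, hxy, hf₂.symm y x, mul_zero,
        add_zero]
    · rw [finrank_top, Module.finrank_fin_fun]
      have hli : LinearIndependent F ![x, y] := by
        rw [LinearIndependent.pair_iff' hx]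
        exact hcon
      have h := finrank_span_eq_card hli
      rw [Matrix.range_cons, Matrix.range_cons, Matrix.range_empty, Set.union_empty, Set.singleton_union,
        Fintype.card_fin] at h
      omega
  have hq3 : Nat.card F ≠ 3 := by rw [Nat.card_eq_fintype_card]; omega
  refine isMaximalIn_of_coord (CfsgLib.AschbacherQuad.quadForm hQ) e P
    (CfsgLib.OrthMax.isMaximalIn_omega _ (hs.exists_omega_out le_rfl (by norm_num))
      fun M hM g hg _ hgK => ?_)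
  have hK := CfsgLib.TensorSlice.swIso_mem_Kr hs.apos hs.bpos hs.tset
  obtain ⟨γ, z₁, z₂, hγ0, hγ, hz₁, hz₂, han⟩ := exists_plane_four hs.tset.f₂ le_rfl hN
  obtain ⟨m, hm, hmK, γ', hγ'0, hγ', hmap⟩ := hs.swap.exists_left_slice_of_plane rfl ⟨2, rfl⟩ le_rfl
    hγ0 hγ hz₁ hz₂ han (M := M.map (CfsgLib.TensorSlice.swIso _).toMonoidHom) (fun x hx hxK => by
      rw [← CfsgLib.TensorSlice.swIso_omega] at hx
      obtain ⟨y, hy, rfl⟩ := hx
      exact Subgroup.mem_map_of_mem _ (hM y hy ((hK y).1 hxK)))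
    (g := CfsgLib.TensorSlice.swIso _ g) (Subgroup.mem_map_of_mem _ hg) fun h => hgK ((hK g).1 h)
  obtain ⟨n, hn, rfl⟩ := hm
  have hX : Ctx _ _ _ 1 M := ⟨hs.tset, by norm_num, by norm_num, Or.inr ⟨le_rfl, Or.inl hq3, h2⟩,
    Or.inr (Or.inl hq3), hM⟩
  refine omega_le_of_slice_small hX hs rfl ⟨2, rfl⟩ hN hn (fun h => hmK ((hK n).2 h)) hγ'0 hγ' hγ'0 hγ'
    fun x => ?_
  obtain ⟨w', hw'⟩ := hmap x
  refine ⟨w', ?_⟩
  have h1 := congrArg CfsgLib.TensorSlice.swL hw'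
  rw [show mat _ ((CfsgLib.TensorSlice.swIso _).toMonoidHom n) *ᵥ ten γ' x =
      CfsgLib.TensorSlice.swL.symm (mat _ n *ᵥ CfsgLib.TensorSlice.swL (ten γ' x)) from
    CfsgLib.TensorSlice.swIso_mulVec n _, LinearEquiv.apply_symm_apply, CfsgLib.TensorSlice.swL_ten,
    CfsgLib.TensorSlice.swL_ten] at h1
  exact h1

end CfsgLib.OrthTwelveTensor
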